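import Cfsg.Agent.PrimeGraphBC.SympTwo

/-!
# The prime graph of `PSp(6, 3)`
-/

set_option autoImplicit false
set_option linter.style.haveILetI false

namespace CfsgLib.PrimeGraph67.SpSix

open CfsgLib.PrimeGraphBC

variable {F : Type*} [Field F] [Fintype F]

local notation "L" => Cfsg.PSp 3 F

theorem eta_five : eta 3 5 = 2 := by
  haveI : Fact (Nat.Prime 2) := ⟨Nat.prime_two⟩
  exact orderOf_eq_prime (by decide +kernel) (by decide +kernel)

theorem eta_seven : eta 3 7 = 3 := by
  haveI : Fact (Nat.Prime 3) := ⟨Nat.prime_three⟩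
  exact orderOf_eq_prime (by decide +kernel) (by decide +kernel)

theorem eta_thirteen : eta 3 13 = 3 := by
  haveI : Fact (Nat.Prime 3) := ⟨Nat.prime_three⟩
  exact orderOf_eq_prime (by decide +kernel) (by decide +kernel)

theorem charP_three (hF : Fintype.card F = 3) : CharP F 3 := by
  haveI : Fact (Nat.Prime 3) := ⟨Nat.prime_three⟩
  exact charP_of_card_eq_prime_pow (f := 1) (by rw [hF]; rfl)

/-- The edge relation of `PSp(6, 3)`. -/
theorem edge_iff (hF : Fintype.card F = 3) {r s : ℕ}
    (hr : r = 2 ∨ r = 3 ∨ r = 5 ∨ r = 7 ∨ r = 13) (hs : s = 2 ∨ s = 3 ∨ s = 5 ∨ s = 7 ∨ s = 13)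
    (hrs : r ≠ s) :
    r * s ∈ Set.range (orderOf : L → ℕ) ↔ r * s = 6 ∨ r * s = 10 ∨ r * s = 14 ∨ r * s = 15 := by
  haveI := charP_three hF
  haveI : Fact (Nat.Prime 3) := ⟨Nat.prime_three⟩
  haveI : Fact (Nat.Prime 5) := ⟨Nat.prime_five⟩
  haveI : Fact (Nat.Prime 7) := ⟨by norm_num⟩
  haveI : Fact (Nat.Prime 13) := ⟨by norm_num⟩
  have h5 := eta_five
  have h7 := eta_seven
  have h13 := eta_thirteen
  have e23 : (6 : ℕ) ∈ Set.range (orderOf : L → ℕ) := two_char_mem (F := F) 3 (by norm_num) (by norm_num)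
  have e25 : (10 : ℕ) ∈ Set.range (orderOf : L → ℕ) :=
    (two_iff (F := F) (n := 3) (p := 3) (r := 5) (by norm_num) (by norm_num) (by norm_num) (by norm_num)
      (by rw [hF, h5]; norm_num)).2 (Or.inl (by rw [hF, h5]))
  have e27 : (14 : ℕ) ∈ Set.range (orderOf : L → ℕ) :=
    (two_iff (F := F) (n := 3) (p := 3) (r := 7) (by norm_num) (by norm_num) (by norm_num) (by norm_num)
      (by rw [hF, h7])).2 (Or.inr (by rw [hF]; exact Or.inr ⟨by decide, by decide⟩))
  have e35 : (15 : ℕ) ∈ Set.range (orderOf : L → ℕ) :=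
    (char_iff (F := F) (n := 3) (p := 3) (r := 5) (by norm_num) (by norm_num) (by norm_num)).2
      (by rw [hF, h5])
  have n213 : (26 : ℕ) ∉ Set.range (orderOf : L → ℕ) := fun h => by
    rcases (two_iff (F := F) (n := 3) (p := 3) (r := 13) (by norm_num) (by norm_num) (by norm_num)
      (by norm_num) (by rw [hF, h13])).1 h with h | h <;> rw [hF] at h
    · rw [h13] at h; norm_num at h
    · exact absurd h (by unfold SameSign; decide)
  have n37 : (21 : ℕ) ∉ Set.range (orderOf : L → ℕ) := fun h => by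
    have := (char_iff (F := F) (n := 3) (p := 3) (r := 7) (by norm_num) (by norm_num) (by norm_num)).1 h
    rw [hF, h7] at this
    norm_num at this
  have n313 : (39 : ℕ) ∉ Set.range (orderOf : L → ℕ) := fun h => by
    have := (char_iff (F := F) (n := 3) (p := 3) (r := 13) (by norm_num) (by norm_num) (by norm_num)).1 h
    rw [hF, h13] at this
    norm_num at this
  have n57 : (35 : ℕ) ∉ Set.range (orderOf : L → ℕ) := fun h => by
    have := (pair_iff (F := F) (n := 3) (p := 3) (r := 5) (s := 7) (by norm_num) (by norm_num)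
      (by norm_num) (by norm_num) (by norm_num) (by norm_num) (by rw [hF, h7])
      (by rw [hF, h5, h7]; norm_num)).1 h
    rw [hF, h5, h7] at this
    exact absurd this (by unfold SameSign; decide)
  have n513 : (65 : ℕ) ∉ Set.range (orderOf : L → ℕ) := fun h => by
    have := (pair_iff (F := F) (n := 3) (p := 3) (r := 5) (s := 13) (by norm_num) (by norm_num)
      (by norm_num) (by norm_num) (by norm_num) (by norm_num) (by rw [hF, h13])
      (by rw [hF, h5, h13]; norm_num)).1 h
    rw [hF, h5, h13] at this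
    exact absurd this (by unfold SameSign; decide)
  have n713 : (91 : ℕ) ∉ Set.range (orderOf : L → ℕ) := fun h => by
    have := (pair_iff (F := F) (n := 3) (p := 3) (r := 7) (s := 13) (by norm_num) (by norm_num)
      (by norm_num) (by norm_num) (by norm_num) (by norm_num) (by rw [hF, h13])
      (by rw [hF, h7, h13])).1 h
    rw [hF, h7, h13] at this
    exact absurd this (by unfold SameSign; decide)
  rcases hr with rfl | rfl | rfl | rfl | rfl <;> rcases hs with rfl | rfl | rfl | rfl | rfl <;>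
    simp_all

/-- The prime divisors. -/
theorem prime_dvd_iff (hF : Fintype.card F = 3) {r : ℕ} (hr : r.Prime) :
    r ∣ Nat.card L ↔ r = 2 ∨ r = 3 ∨ r = 5 ∨ r = 7 ∨ r = 13 := by
  have hsp : Nat.card (Matrix.symplecticGroup (Fin 3) F) = 2 ^ 10 * 3 ^ 9 * 5 * 7 * 13 := by
    rw [Forms.card_symplecticGroup, hF]
    norm_num [Finset.prod_range_succ]
  constructor
  · intro h
    have h' : r ∣ 2 ^ 10 * 3 ^ 9 * 5 * 7 * 13 := hsp ▸ h.trans (Subgroup.card_quotient_dvd_card _)
    have e : ∀ {p : ℕ}, p.Prime → r ∣ p → r = p := fun hp hd => (Nat.prime_dvd_prime_iff_eq hr hp).1 hd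
    rcases hr.dvd_mul.1 h' with h' | h'
    rcases hr.dvd_mul.1 h' with h' | h'
    rcases hr.dvd_mul.1 h' with h' | h'
    rcases hr.dvd_mul.1 h' with h' | h'
    · exact Or.inl (e Nat.prime_two (hr.dvd_of_dvd_pow h'))
    · exact Or.inr (Or.inl (e Nat.prime_three (hr.dvd_of_dvd_pow h')))
    · exact Or.inr (Or.inr (Or.inl (e Nat.prime_five h')))
    · exact Or.inr (Or.inr (Or.inr (Or.inl (e (by norm_num) h'))))
    · exact Or.inr (Or.inr (Or.inr (Or.inr (e (by norm_num) h'))))
  · intro h
    have hmem : ∀ {m : ℕ}, m ∈ Set.range (orderOf : L → ℕ) → m ∣ Nat.card L := by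
      rintro m ⟨x, rfl⟩
      exact orderOf_dvd_natCard x
    have e6 := hmem ((edge_iff hF (r := 2) (s := 3) (by simp) (by simp) (by norm_num)).2 (by norm_num))
    have e10 := hmem ((edge_iff hF (r := 2) (s := 5) (by simp) (by simp) (by norm_num)).2 (by norm_num))
    have e14 := hmem ((edge_iff hF (r := 2) (s := 7) (by simp) (by simp) (by norm_num)).2 (by norm_num))
    rcases h with rfl | rfl | rfl | rfl | rfl
    · exact (dvd_mul_right 2 3).trans e6
    · exact (dvd_mul_left 3 2).trans e6
    · exact (dvd_mul_left 5 2).trans e10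
    · exact (dvd_mul_left 7 2).trans e14
    · haveI := charP_three hF
      haveI : Fact (Nat.Prime 3) := ⟨Nat.prime_three⟩
      haveI : Fact (Nat.Prime 13) := ⟨by norm_num⟩
      obtain ⟨g, hg⟩ := exists_order_prime (F := F) (p := 3) (r := 13) (a := 3) (by norm_num)
        (by rw [hF, eta_thirteen])
      have h13 : orderOf (QuotientGroup.mk g : L) = 13 := by
        rw [orderOf_mk (by norm_num) g (Or.inl (by rw [hg]; decide)), hg]
      exact h13 ▸ orderOf_dvd_natCard _

end CfsgLib.PrimeGraph67.SpSix
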