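import Cfsg.Agent.Ree3.Basic
import Cfsg.Agent.Suzuki.Tori
import Cfsg.Agent.Suzuki.LieModel

/-!
# `Sz(8)` extended by its field automorphism, and a module over `F₂`

The module is the space of four by four matrices over the field with eight elements, with
`g • M = g M (g²)ᵀ` (`g²`: entries squared) and the field automorphism acting on entries.
-/

set_option autoImplicit false
set_option maxRecDepth 100000
set_option linter.style.haveILetI false

namespace CfsgLib.PrimeGraph67.SzEight

open Matrix CfsgLib.Suzuki CfsgLib.Ree3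

local notation "SL4" => Matrix.SpecialLinearGroup (Fin 4) F8
local notation "M4" => Matrix (Fin 4) (Fin 4) F8
local notation "G8" => Cfsg.Sz F8 1

theorem szField : SzField F8 1 := ⟨le_rfl, card_f8⟩

/-- Squaring, as a ring homomorphism. -/
def sqHom : F8 →+* F8 where
  toFun x := x * x
  map_one' := by decide +kernel
  map_mul' := by decide +kernel
  map_zero' := by decide +kernel
  map_add' := by decide +kernel

theorem sqHom_three : ∀ x : F8, sqHom (sqHom (sqHom x)) = x := by decide +kernel

theorem sqHom_ne : ∀ x : F8, x ≠ 0 → x ≠ 1 → sqHom x ≠ x ∧ sqHom (sqHom x) ≠ x := by decide +kernel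

theorem sqHom_theta (x : F8) : sqHom (θ 1 x) = θ 1 (sqHom x) := map_pow sqHom x _

/-- The field automorphism on `SL₄`. -/
def slSq : SL4 →* SL4 := Matrix.SpecialLinearGroup.map sqHom

theorem slSq_coe (g : SL4) : (slSq g : M4) = (g : M4).map sqHom := rfl

theorem slSq_mem {g : SL4} (hg : g ∈ G8) : slSq g ∈ G8 := by
  have hu : ∀ a b : F8, slSq (uni 1 a b) ∈ G8 := fun a b => by
    have e : slSq (uni 1 a b) = uni 1 (sqHom a) (sqHom b) := by
      refine Matrix.SpecialLinearGroup.ext _ _ fun i j => ?_
      simp only [slSq_coe, uni_val, uniMat, Matrix.map_apply]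
      fin_cases i <;> fin_cases j <;> simp [szF, sqHom_theta]
    rw [e]
    exact (uniEl szField (sqHom a) (sqHom b)).2
  have ht : ∀ μ : F8ˣ, slSq (tor 1 μ) ∈ G8 := fun μ => by
    have e : slSq (tor 1 μ) = tor 1 (Units.map sqHom.toMonoidHom μ) := by
      refine Matrix.SpecialLinearGroup.ext _ _ fun i j => ?_
      show sqHom (torMat 1 μ i j) = torMat 1 (Units.map sqHom.toMonoidHom μ) i j
      fin_cases i <;> fin_cases j <;> simp [torMat]
    rw [e]
    exact (torSz szField _).2
  have hw : slSq (weyl : SL4) ∈ G8 := by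
    have e : slSq (weyl : SL4) = weyl := by
      refine Matrix.SpecialLinearGroup.ext _ _ fun i j => ?_
      show sqHom (weylMat i j) = (weylMat : M4) i j
      fin_cases i <;> fin_cases j <;> simp [weylMat]
    rw [e]
    exact (weylEl szField).2
  rcases bruhat szField ⟨g, hg⟩ with ⟨a, b, μ, e⟩ | ⟨x, y, a, b, μ, e⟩
  · rw [show g = uni 1 a b * tor 1 μ from congrArg Subtype.val e, map_mul]
    exact mul_mem (hu a b) (ht μ)
  · rw [show g = uni 1 x y * weyl * (uni 1 a b * tor 1 μ) from congrArg Subtype.val e, map_mul,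
      map_mul, map_mul]
    exact mul_mem (mul_mem (hu x y) hw) (mul_mem (hu a b) (ht μ))

theorem slSq_three (g : SL4) : slSq (slSq (slSq g)) = g :=
  Matrix.SpecialLinearGroup.ext _ _ fun i j => sqHom_three _

/-- The field automorphism of `Sz(8)`. -/
def szAut : MulAut G8 where
  toFun g := ⟨slSq g, slSq_mem g.2⟩
  invFun g := ⟨slSq (slSq g), slSq_mem (slSq_mem g.2)⟩
  left_inv g := Subtype.ext (slSq_three g.1)
  right_inv g := Subtype.ext (slSq_three g.1)
  map_mul' g h := Subtype.ext (map_mul slSq g.1 h.1)

/-- The module. -/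
abbrev Mod : Type := Multiplicative M4

/-- The field automorphism on the module. -/
def modAut : MulAut Mod where
  toFun v := Multiplicative.ofAdd (v.toAdd.map sqHom)
  invFun v := Multiplicative.ofAdd ((v.toAdd.map sqHom).map sqHom)
  left_inv v := by
    apply Multiplicative.toAdd.injective
    ext i j
    exact sqHom_three _
  right_inv v := by
    apply Multiplicative.toAdd.injective
    ext i j
    exact sqHom_three _
  map_mul' v w := by
    apply Multiplicative.toAdd.injective
    ext i j
    exact map_add sqHom _ _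

/-- The action of a matrix on the module. -/
def tw (g : SL4) (M : M4) : M4 := (g : M4) * M * ((g : M4).map sqHom)ᵀ

theorem tw_one (M : M4) : tw 1 M = M := by
  simp [tw]

theorem tw_mul (g h : SL4) (M : M4) : tw (g * h) M = tw g (tw h M) := by
  simp only [tw, Matrix.SpecialLinearGroup.coe_mul, Matrix.map_mul, Matrix.transpose_mul,
    Matrix.mul_assoc]

theorem tw_add (g : SL4) (M N : M4) : tw g (M + N) = tw g M + tw g N := by
  simp only [tw, Matrix.mul_add, Matrix.add_mul]

/-- The representation of `Sz(8)`. -/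
def szRep : G8 →* MulAut Mod where
  toFun g :=
    { toFun := fun v => Multiplicative.ofAdd (tw g v.toAdd)
      invFun := fun v => Multiplicative.ofAdd (tw (g⁻¹ : G8) v.toAdd)
      left_inv := fun v => by
        apply Multiplicative.toAdd.injective
        show tw (g⁻¹ : G8) (tw g v.toAdd) = v.toAdd
        rw [← tw_mul, ← Subgroup.coe_mul, inv_mul_cancel, Subgroup.coe_one, tw_one]
      right_inv := fun v => by
        apply Multiplicative.toAdd.injective
        show tw g (tw (g⁻¹ : G8) v.toAdd) = v.toAdd
        rw [← tw_mul, ← Subgroup.coe_mul, mul_inv_cancel, Subgroup.coe_one, tw_one]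
      map_mul' := fun v w => congrArg Multiplicative.ofAdd (tw_add g v.toAdd w.toAdd) }
  map_one' := by
    refine MulEquiv.ext fun v => ?_
    exact congrArg Multiplicative.ofAdd (tw_one v.toAdd)
  map_mul' g h := by
    refine MulEquiv.ext fun v => ?_
    exact congrArg Multiplicative.ofAdd (tw_mul g h v.toAdd)

theorem szRep_aut (g : G8) (v : Mod) : szRep (szAut g) (modAut v) = modAut (szRep g v) := by
  apply Multiplicative.toAdd.injective
  show (slSq (g : SL4) : M4) * v.toAdd.map sqHom * ((slSq (g : SL4) : M4).map sqHom)ᵀ =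
    ((g : SL4) * v.toAdd * (((g : SL4) : M4).map sqHom)ᵀ : M4).map sqHom
  rw [slSq_coe, Matrix.map_mul, Matrix.map_mul, Matrix.transpose_map]

/-- The field automorphism, acting on the group and on the module. -/
def fieldGen : MulAut G8 × MulAut Mod := (szAut, modAut)

/-- The group of order three generated by it. -/
def fieldGroup : Subgroup (MulAut G8 × MulAut Mod) := Subgroup.zpowers fieldGen

/-- The action of the field automorphisms on `Sz(8)`. -/
def fieldAct : fieldGroup →* MulAut G8 := (MonoidHom.fst _ _).comp fieldGroup.subtype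

theorem fieldGen_pow_three : fieldGen ^ 3 = 1 := by
  refine Prod.ext (MulEquiv.ext fun g => Subtype.ext ?_) (MulEquiv.ext fun v => ?_)
  · exact slSq_three g.1
  · apply Multiplicative.toAdd.injective
    ext i j
    exact sqHom_three _

theorem fieldGen_ne_one : fieldGen ≠ 1 := by
  intro h
  have h1 := congrArg (fun e : MulAut G8 × MulAut Mod =>
    (e.2 (Multiplicative.ofAdd ((Matrix.single 0 0 (toF8 2)) : M4))).toAdd 0 0) h
  simp only [fieldGen, Prod.snd_one, MulAut.one_apply, toAdd_ofAdd, Matrix.single_apply_same] at h1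
  have h2 : sqHom (toF8 2) = toF8 2 := by
    refine Eq.trans ?_ h1
    show _ = sqHom ((Matrix.single 0 0 (toF8 2) : M4) 0 0)
    rw [Matrix.single_apply_same]
  exact absurd h2 (by decide +kernel)

theorem orderOf_fieldGen : orderOf fieldGen = 3 := by
  haveI : Fact (Nat.Prime 3) := ⟨Nat.prime_three⟩
  exact orderOf_eq_prime fieldGen_pow_three fieldGen_ne_one

theorem mem_fieldGroup_cases (c : fieldGroup) :
    c = 1 ∨ (c : MulAut G8 × MulAut Mod) = fieldGen ∨ (c : MulAut G8 × MulAut Mod) = fieldGen ^ 2 := by
  obtain ⟨k, hk⟩ := (Submonoid.mem_powers_iff _ _).1 (mem_powers_iff_mem_zpowers.2 c.2)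
  rw [← pow_mod_orderOf, orderOf_fieldGen] at hk
  have : k % 3 = 0 ∨ k % 3 = 1 ∨ k % 3 = 2 := by omega
  rcases this with h | h | h <;> rw [h] at hk
  · exact Or.inl (Subtype.ext (hk.symm.trans (pow_zero _)))
  · exact Or.inr (Or.inl (hk.symm.trans (pow_one _)))
  · exact Or.inr (Or.inr hk.symm)

/-- `Sz(8).3`. -/
abbrev SzExt : Type := G8 ⋊[fieldAct] fieldGroup

theorem field_compat (c : fieldGroup) (g : G8) (v : Mod) :
    szRep (fieldAct c g) ((c : MulAut G8 × MulAut Mod).2 v) = (c : MulAut G8 × MulAut Mod).2 (szRep g v) := by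
  obtain ⟨k, hk⟩ := (Submonoid.mem_powers_iff _ _).1 (mem_powers_iff_mem_zpowers.2 c.2)
  show szRep ((c : MulAut G8 × MulAut Mod).1 g) _ = _
  rw [← hk]
  clear hk
  induction k generalizing g v with
  | zero => simp
  | succ k ih =>
    rw [pow_succ', Prod.fst_mul, Prod.snd_mul, MulAut.mul_apply, MulAut.mul_apply, MulAut.mul_apply]
    exact (szRep_aut _ _).trans (congrArg modAut (ih g v))

/-- The action of `Sz(8).3` on the module. -/
def extRep : SzExt →* MulAut Mod :=
  SemidirectProduct.lift szRep ((MonoidHom.snd _ _).comp fieldGroup.subtype) (fun c => by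
    refine MonoidHom.ext fun g => MulEquiv.ext fun v => ?_
    show szRep (fieldAct c g) v =
      (c : MulAut G8 × MulAut Mod).2 (szRep g (((c : MulAut G8 × MulAut Mod).2)⁻¹ v))
    rw [← field_compat]
    exact congrArg _ ((c : MulAut G8 × MulAut Mod).2.apply_symm_apply v).symm)

end CfsgLib.PrimeGraph67.SzEight
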