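import Cfsg.Agent.PrimeGraph67.SzFrobeniusAut
import Cfsg.Agent.PrimeGraph.ModuleExtension
import Cfsg.Agent.PrimeGraph.Lucido

/-!
# Large groups on `{2, 3, 5, 7, 13}` with exactly the edges 2-3, 2-5, 2-7, 3-5
-/

set_option autoImplicit false
set_option maxRecDepth 100000
set_option linter.style.haveILetI false

namespace CfsgLib.PrimeGraph67.SzEight

open Matrix CfsgLib.Suzuki CfsgLib.Ree3

local notation "SL4" => Matrix.SpecialLinearGroup (Fin 4) F8
local notation "M4" => Matrix (Fin 4) (Fin 4) F8
local notation "G8" => Cfsg.Sz F8 1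

/-- The matrix of an element. -/
abbrev mat (g : G8) : M4 := ((g : SL4) : M4)

theorem mat_hom_injective : Function.Injective (fun g : G8 => mat g) :=
  fun _ _ h => Subtype.ext (Subtype.ext h)

theorem orderOf_mat (g : G8) : orderOf (mat g) = orderOf g :=
  orderOf_injective ((Matrix.SpecialLinearGroup.coeMonoidHom).comp (Cfsg.Sz F8 1).subtype)
    mat_hom_injective g

theorem mat_pow (g : G8) : ∀ n : ℕ, mat (g ^ n) = mat g ^ n
  | 0 => rfl
  | n + 1 => by
    rw [pow_succ, pow_succ, ← mat_pow g n]
    rfl

theorem card_G8 : Nat.card G8 = 29120 := by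
  rw [card_sz szField, card_f8]
  norm_num

theorem card_SzExt : Nat.card SzExt = 87360 := by
  rw [SemidirectProduct.card, card_G8]
  show 29120 * Nat.card (Subgroup.zpowers fieldGen) = _
  rw [Nat.card_zpowers, orderOf_fieldGen]

instance instFiniteSzExt : Finite SzExt :=
  Nat.finite_of_card_ne_zero (by rw [card_SzExt]; norm_num)

/-- The matrix of an element of order thirteen. -/
def matThirteen : M4 := uniMat 1 (toF8 0) (toF8 3) * weylMat

/-- The matrix of an element of order five. -/
def matFive : M4 := uniMat 1 (toF8 0) (toF8 1) * weylMat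

/-- The element of the torus. -/
def torUnit : F8ˣ := Units.mk0 (toF8 2) (by decide +kernel)

/-- An element of order seven. -/
def elSeven : G8 := torSz szField torUnit

/-- An element of order thirteen. -/
def elThirteen : G8 := uniEl szField (toF8 0) (toF8 3) * weylEl szField

/-- An element of order five fixed by the field automorphism. -/
def elFive : G8 := uniEl szField (toF8 0) (toF8 1) * weylEl szField

theorem mat_elSeven : mat elSeven = torMat 1 torUnit := rfl

theorem mat_elThirteen : mat elThirteen = matThirteen := rfl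

theorem mat_elFive : mat elFive = matFive := rfl

theorem orderOf_elSeven : orderOf elSeven = 7 := by
  haveI : Fact (Nat.Prime 7) := ⟨by norm_num⟩
  rw [← orderOf_mat, mat_elSeven]
  exact orderOf_eq_prime (by decide +kernel) (by decide +kernel)

theorem orderOf_elThirteen : orderOf elThirteen = 13 := by
  haveI : Fact (Nat.Prime 13) := ⟨by norm_num⟩
  rw [← orderOf_mat, mat_elThirteen]
  exact orderOf_eq_prime (by decide +kernel) (by decide +kernel)

theorem orderOf_elFive : orderOf elFive = 5 := by
  haveI : Fact (Nat.Prime 5) := ⟨by norm_num⟩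
  rw [← orderOf_mat, mat_elFive]
  exact orderOf_eq_prime (by decide +kernel) (by decide +kernel)

theorem trace_seven : ∀ i : Fin 6,
    ((torMat 1 torUnit : M4) ^ (i.val + 1)).trace ≠ 0 ∧ ((torMat 1 torUnit : M4) ^ (i.val + 1)).trace ≠ 1 := by
  decide +kernel

theorem trace_thirteen : ∀ i : Fin 12,
    (matThirteen ^ (i.val + 1)).trace ≠ 0 ∧ (matThirteen ^ (i.val + 1)).trace ≠ 1 := by
  decide +kernel

/-- Cyclic subgroups of a prime order dividing the group order once are conjugate. -/
theorem exists_conj_pow {r : ℕ} (hr : r = 7 ∨ r = 13) {y a : G8} (hy : orderOf y = r) (ha : orderOf a = r) :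
    ∃ (k : G8) (i j : ℕ), k * y * k⁻¹ = a ^ i ∧ a = k * y ^ j * k⁻¹ ∧ 0 < j ∧ j < r := by
  haveI : Fact r.Prime := ⟨by rcases hr with rfl | rfl <;> norm_num⟩
  have hfac : (Nat.card G8).factorization r = 1 := by
    rw [card_G8]
    rcases hr with rfl | rfl
    · rw [show (29120 : ℕ) = 4160 * 7 by norm_num, Nat.factorization_mul (by norm_num) (by norm_num),
        Finsupp.add_apply, Nat.factorization_eq_zero_of_not_dvd (by norm_num : ¬ 7 ∣ 4160),
        Nat.Prime.factorization_self (by norm_num)]
    · rw [show (29120 : ℕ) = 2240 * 13 by norm_num, Nat.factorization_mul (by norm_num) (by norm_num),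
        Finsupp.add_apply, Nat.factorization_eq_zero_of_not_dvd (by norm_num : ¬ 13 ∣ 2240),
        Nat.Prime.factorization_self (by norm_num)]
  let P : Sylow r G8 := Sylow.ofCard (Subgroup.zpowers y) (by rw [Nat.card_zpowers, hy, hfac, pow_one])
  let Q : Sylow r G8 := Sylow.ofCard (Subgroup.zpowers a) (by rw [Nat.card_zpowers, ha, hfac, pow_one])
  obtain ⟨k, hk⟩ := MulAction.exists_smul_eq G8 P Q
  have hmem : k * y * k⁻¹ ∈ Subgroup.zpowers a := by
    show k * y * k⁻¹ ∈ (Q : Subgroup G8)
    rw [← hk, Sylow.coe_subgroup_smul]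
    exact ⟨y, Subgroup.mem_zpowers y, rfl⟩
  obtain ⟨i, hi⟩ := (Submonoid.mem_powers_iff _ _).1 (mem_powers_iff_mem_zpowers.2 hmem)
  have hoy : orderOf (k * y * k⁻¹) = r := (MulEquiv.orderOf_eq (MulAut.conj k) y).trans hy
  have heq : Subgroup.zpowers (k * y * k⁻¹) = Subgroup.zpowers a :=
    Subgroup.eq_of_le_of_card_ge (Subgroup.zpowers_le.2 hmem)
      (by rw [Nat.card_zpowers, Nat.card_zpowers, hoy, ha])
  have hamem : a ∈ Subgroup.zpowers (k * y * k⁻¹) := heq ▸ Subgroup.mem_zpowers a
  obtain ⟨j, hj⟩ := (Submonoid.mem_powers_iff _ _).1 (mem_powers_iff_mem_zpowers.2 hamem)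
  have haj : a = k * y ^ (j % r) * k⁻¹ := by
    rw [← hy, pow_mod_orderOf, ← conj_pow]
    exact hj.symm
  refine ⟨k, i, j % r, hi.symm, haj, Nat.pos_of_ne_zero fun h0 => ?_, Nat.mod_lt _ (Fact.out : r.Prime).pos⟩
  rw [h0, pow_zero, mul_one, mul_inv_cancel] at haj
  rw [haj, orderOf_one] at ha
  exact (Fact.out : r.Prime).ne_one ha.symm

theorem trace_conj (k x : G8) : (mat (k * x * k⁻¹)).trace = (mat x).trace := by
  have e : mat (k * x * k⁻¹) = mat k * mat x * mat k⁻¹ := rfl
  rw [e, Matrix.trace_mul_comm, ← Matrix.mul_assoc,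
    show mat k⁻¹ * mat k = mat (k⁻¹ * k) from rfl, inv_mul_cancel]
  exact congrArg Matrix.trace (one_mul _)

theorem trace_map (M : M4) : (M.map sqHom).trace = sqHom M.trace :=
  (AddMonoidHom.map_trace sqHom.toAddMonoidHom M).symm

theorem trace_ne {r : ℕ} (hr : r = 7 ∨ r = 13) {a : G8} (ha : orderOf a = r) :
    (mat a).trace ≠ 0 ∧ (mat a).trace ≠ 1 := by
  rcases hr with rfl | rfl
  · obtain ⟨k, i, j, -, hj, hj0, hj1⟩ := exists_conj_pow (Or.inl rfl) orderOf_elSeven ha
    rw [hj, trace_conj, mat_pow, mat_elSeven]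
    have := trace_seven ⟨j - 1, by omega⟩
    rwa [show (⟨j - 1, by omega⟩ : Fin 6).val + 1 = j by simp only; omega] at this
  · obtain ⟨k, i, j, -, hj, hj0, hj1⟩ := exists_conj_pow (Or.inr rfl) orderOf_elThirteen ha
    rw [hj, trace_conj, mat_pow, mat_elThirteen]
    have := trace_thirteen ⟨j - 1, by omega⟩
    rwa [show (⟨j - 1, by omega⟩ : Fin 12).val + 1 = j by simp only; omega] at this

/-- Elements centralising an element of order 7 or 13 have order dividing it. -/
theorem pow_eq_one_of_commute {r : ℕ} (hr : r = 7 ∨ r = 13) {a b : G8} (ha : orderOf a = r)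
    (hb : Commute b a) : b ^ r = 1 := by
  obtain ⟨y, hy, hC⟩ : ∃ y : G8, orderOf y = r ∧
      ∀ x : G8, Commute x y → x ^ r = 1 := by
    rcases hr with rfl | rfl
    · refine ⟨elSeven, orderOf_elSeven, fun x hx => ?_⟩
      have hx' : x ∈ Subgroup.centralizer ({elSeven} : Set G8) :=
        Subgroup.mem_centralizer_singleton_iff.2 hx.eq
      have hμ : torUnit ≠ 1 := fun h => by
        have := congrArg (fun u : F8ˣ => (u : F8)) h
        exact absurd this (by decide +kernel)
      rw [elSeven, centralizer_torSz szField hμ] at hx'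
      obtain ⟨u, rfl⟩ := hx'
      rw [← map_pow, show u ^ 7 = 1 from Units.ext (by
        rw [Units.val_pow_eq_pow_val, Units.val_one]
        have h := FiniteField.pow_card_sub_one_eq_one (u : F8) u.ne_zero
        rwa [card_f8] at h), map_one]
    · obtain ⟨z, hz, hzc, -⟩ := exists_torus szField (k := 13) (Or.inl (by rw [card_f8]; norm_num))
      refine ⟨z, ?_, fun x hx => ?_⟩
      · have h := orderOf_dvd_card_cT z
        rw [hzc] at h
        exact ((Nat.dvd_prime (by norm_num)).1 h).resolve_left (fun h1 => hz.ne_one (orderOf_eq_one_iff.1 h1))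
      · have hx' : x ∈ cT z := mem_cT.2 hx.eq
        exact orderOf_dvd_iff_pow_eq_one.1 (hzc ▸ Subgroup.orderOf_dvd_natCard (cT z) hx')
  obtain ⟨k, i, j, hk, -, -, -⟩ := exists_conj_pow hr hy ha
  have h1 : Commute (k⁻¹ * b * k) y := by
    have h2 : Commute b (k * y * k⁻¹) := hk ▸ hb.pow_right i
    have h3 := congrArg (fun z : G8 => k⁻¹ * z * k) h2.eq
    simp only [mul_assoc, inv_mul_cancel, mul_one, inv_mul_cancel_left] at h3
    simp only [Commute, SemiconjBy, mul_assoc]
    simpa [mul_assoc] using h3
  have h4 := hC _ h1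
  have h5 : (k⁻¹ * b * k) ^ r = k⁻¹ * b ^ r * k := by
    simpa using (conj_pow (a := k⁻¹) (b := b) (i := r))
  rw [h5] at h4
  have := congrArg (fun z : G8 => k * z * k⁻¹) h4
  simpa [mul_assoc] using this

theorem mat_fieldAct (c : fieldGroup) (hc : c ≠ 1) (a : G8) :
    mat (fieldAct c a) = (mat a).map sqHom ∨ mat (fieldAct c a) = ((mat a).map sqHom).map sqHom := by
  rcases mem_fieldGroup_cases c with h | h | h
  · exact absurd h hc
  · left
    show mat ((c : MulAut G8 × MulAut Mod).1 a) = _
    rw [h]
    rfl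
  · right
    show mat ((c : MulAut G8 × MulAut Mod).1 a) = _
    rw [h, pow_two]
    rfl

/-- No element has order `r * s` for `r = 7, 13` and another prime `s`. -/
theorem no_edge {r s : ℕ} (hr : r = 7 ∨ r = 13) (hs : s.Prime) (hrs : r ≠ s) (g : SzExt) :
    orderOf g ≠ r * s := by
  intro hg
  have hrp : r.Prime := by rcases hr with rfl | rfl <;> norm_num
  have hox : orderOf (g ^ s) = r := by
    rw [orderOf_pow, hg, Nat.gcd_eq_right (dvd_mul_left s r), Nat.mul_div_cancel _ hs.pos]
  have hoz : orderOf (g ^ r) = s := by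
    rw [orderOf_pow, hg, Nat.gcd_eq_right (dvd_mul_right r s), Nat.mul_div_cancel_left _ hrp.pos]
  have hright : (g ^ s).right = 1 := by
    have h1 := orderOf_map_dvd (SemidirectProduct.rightHom : SzExt →* fieldGroup) (g ^ s)
    rw [hox] at h1
    have h3 : orderOf (g ^ s).right ∣ 3 := by
      have := orderOf_dvd_natCard (g ^ s).right
      rwa [show Nat.card fieldGroup = 3 by
        show Nat.card (Subgroup.zpowers fieldGen) = 3
        rw [Nat.card_zpowers, orderOf_fieldGen]] at this
    have hc : Nat.Coprime r 3 := by rcases hr with rfl | rfl <;> decide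
    exact orderOf_eq_one_iff.1 (Nat.eq_one_of_dvd_coprimes hc h1 h3)
  obtain ⟨a, ha⟩ : ∃ a, g ^ s = SemidirectProduct.inl a :=
    ⟨(g ^ s).left, SemidirectProduct.ext rfl hright⟩
  have hoa : orderOf a = r := by
    rw [← orderOf_injective _ (SemidirectProduct.inl_injective (φ := fieldAct)) a, ← ha, hox]
  set z := g ^ r with hz
  have hcomm : z * SemidirectProduct.inl a = SemidirectProduct.inl a * z := by
    rw [← ha, hz, ← pow_add, ← pow_add, add_comm]
  have hleft := congrArg SemidirectProduct.left hcomm
  simp only [SemidirectProduct.mul_left, SemidirectProduct.left_inl, SemidirectProduct.right_inl,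
    map_one, MulAut.one_apply] at hleft
  have hc : z.right = 1 := by
    by_contra hne
    have e : fieldAct z.right a = z.left⁻¹ * a * z.left := by
      rw [mul_assoc, ← hleft]
      group
    have ht : (mat (fieldAct z.right a)).trace = (mat a).trace := by
      rw [e]
      simpa using trace_conj z.left⁻¹ a
    obtain ⟨h0, h1⟩ := trace_ne hr hoa
    rcases mat_fieldAct z.right hne a with h | h <;> rw [h] at ht
    · rw [trace_map] at ht
      exact (sqHom_ne _ h0 h1).1 ht
    · rw [trace_map, trace_map] at ht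
      exact (sqHom_ne _ h0 h1).2 ht
  rw [hc, map_one, MulAut.one_apply] at hleft
  have hb := pow_eq_one_of_commute hr hoa hleft
  obtain ⟨b, hzb⟩ : ∃ b, z = SemidirectProduct.inl b := ⟨z.left, SemidirectProduct.ext rfl hc⟩
  have hzr : z ^ r = 1 := by
    rw [hzb, ← map_pow]
    rw [hzb, SemidirectProduct.left_inl] at hb
    rw [hb, map_one]
  exact hrs ((Nat.prime_dvd_prime_iff_eq hs hrp).1 (hoz ▸ orderOf_dvd_of_pow_eq_one hzr)).symm

/-! ### Fixed vectors -/

/-- Partial sums of the iterates on the module. -/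
def twSum : ℕ → M4 → M4
  | 0, _ => 0
  | n + 1, M => M + matThirteen * twSum n M * (matThirteen.map sqHom)ᵀ

theorem twSum_add : ∀ n M N, twSum n (M + N) = twSum n M + twSum n N
  | 0, _, _ => by simp [twSum]
  | n + 1, M, N => by
    simp only [twSum, twSum_add n M N, Matrix.mul_add, Matrix.add_mul]
    abel

theorem twSum_smul (c : F8) : ∀ n M, twSum n (c • M) = c • twSum n M
  | 0, _ => by simp [twSum]
  | n + 1, M => by
    simp only [twSum, twSum_smul c n M, smul_add, mul_smul_comm, smul_mul_assoc]

theorem twSum_single : ∀ i j : Fin 4, twSum 13 (Matrix.single i j (1 : F8)) = 0 := by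
  decide +kernel

theorem twSum_eq_zero (M : M4) : twSum 13 M = 0 := by
  induction M using Matrix.induction_on' with
  | h_zero => simpa using twSum_smul 0 13 0
  | h_add p q hp hq => rw [twSum_add, hp, hq, add_zero]
  | h_std_basis i j x =>
    rw [show Matrix.single i j x = x • Matrix.single i j (1 : F8) by rw [Matrix.smul_single, smul_eq_mul, mul_one],
      twSum_smul, twSum_single i j, smul_zero]

theorem twSum_fixed {M : M4} (h : matThirteen * M * (matThirteen.map sqHom)ᵀ = M) :
    ∀ n, twSum n M = n • M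
  | 0 => by simp [twSum]
  | n + 1 => by
    rw [twSum, twSum_fixed h n, mul_smul_comm, smul_mul_assoc, h, succ_nsmul, add_comm]

theorem f8_add_self : ∀ x : F8, x + x = 0 := by decide +kernel

theorem mod_sq (v : Mod) : v ^ 2 = 1 := by
  apply Multiplicative.toAdd.injective
  rw [toAdd_pow, two_nsmul]
  exact Matrix.ext fun i j => f8_add_self _

/-- An element of order thirteen fixes no nonzero vector. -/
theorem eq_one_of_fixed {g : SzExt} (hg : orderOf g = 13) {v : Mod} (hv : extRep g v = v) : v = 1 := by
  have hright : g.right = 1 := by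
    have h1 := orderOf_map_dvd (SemidirectProduct.rightHom : SzExt →* fieldGroup) g
    rw [hg] at h1
    have h3 : orderOf g.right ∣ 3 := by
      have := orderOf_dvd_natCard g.right
      rwa [show Nat.card fieldGroup = 3 by
        show Nat.card (Subgroup.zpowers fieldGen) = 3
        rw [Nat.card_zpowers, orderOf_fieldGen]] at this
    exact orderOf_eq_one_iff.1 (Nat.eq_one_of_dvd_coprimes (by decide) h1 h3)
  obtain ⟨a, rfl⟩ : ∃ a, g = SemidirectProduct.inl a := ⟨g.left, SemidirectProduct.ext rfl hright⟩
  rw [orderOf_injective _ SemidirectProduct.inl_injective] at hg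
  rw [extRep, SemidirectProduct.lift_inl] at hv
  obtain ⟨k, i, j, hk, -, -, -⟩ := exists_conj_pow (Or.inr rfl) orderOf_elThirteen hg
  have hfix : ∀ n : ℕ, szRep (a ^ n) v = v := fun n => by
    induction n with
    | zero => simp
    | succ n ih => rw [pow_succ, map_mul, MulAut.mul_apply, hv, ih]
  have h1 := hfix i
  rw [← hk, map_mul, map_mul, map_inv, MulAut.mul_apply, MulAut.mul_apply] at h1
  set u := (szRep k)⁻¹ v with hu
  have h2 : szRep elThirteen u = u := by
    have := congrArg (fun z => (szRep k)⁻¹ z) h1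
    simpa [hu] using this
  have h3 : matThirteen * u.toAdd * (matThirteen.map sqHom)ᵀ = u.toAdd :=
    congrArg Multiplicative.toAdd h2
  have h4 := twSum_fixed h3 13
  rw [twSum_eq_zero] at h4
  have h5 : u = 1 := by
    have h6 : u ^ 13 = 1 := Multiplicative.toAdd.injective (by rw [toAdd_pow]; exact h4.symm)
    rwa [show 13 = 2 * 6 + 1 by rfl, pow_succ, pow_mul, mod_sq, one_pow, one_mul] at h6
  have := congrArg (fun z => szRep k z) h5
  simpa [hu] using this

/-! ### The groups -/

/-- The form matrix, a vector fixed by elements over the prime field. -/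
def vecForm : Mod := Multiplicative.ofAdd (weylMat : M4)

/-- A vector fixed by the element of order seven. -/
def vecSeven : Mod := Multiplicative.ofAdd (Matrix.single 0 1 (1 : F8) : M4)

theorem fixed_checks : matFive * (weylMat : M4) * (matFive.map sqHom)ᵀ = weylMat ∧
    (torMat 1 torUnit : M4) * Matrix.single 0 1 (1 : F8) * ((torMat 1 torUnit : M4).map sqHom)ᵀ =
      Matrix.single 0 1 (1 : F8) ∧
    (weylMat : M4).map sqHom = weylMat ∧ matFive.map sqHom = matFive ∧
    (weylMat : M4) ≠ 0 ∧ (Matrix.single 0 1 (1 : F8) : M4) ≠ 0 := by decide +kernel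

/-- The element of order three outside `Sz(8)`. -/
def elField : SzExt := SemidirectProduct.inr ⟨fieldGen, Subgroup.mem_zpowers _⟩

theorem orderOf_elField : orderOf elField = 3 := by
  rw [elField, orderOf_injective _ SemidirectProduct.inr_injective]
  exact (Subgroup.orderOf_mk _ _).trans orderOf_fieldGen

theorem commute_five : Commute (SemidirectProduct.inl elFive : SzExt) elField := by
  have h : fieldAct ⟨fieldGen, Subgroup.mem_zpowers _⟩ elFive = elFive := mat_hom_injective fixed_checks.2.2.2.1
  show _ * _ = _ * _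
  refine SemidirectProduct.ext ?_ ?_
  · simp [elField, h]
  · simp [elField]

/-- The pairs joined in the common graph. -/
def IsEdge (r s : ℕ) : Prop := r * s = 6 ∨ r * s = 10 ∨ r * s = 14 ∨ r * s = 15

theorem prime_dvd_ext {r : ℕ} (hr : r.Prime) :
    r ∣ Nat.card SzExt ↔ r = 2 ∨ r = 3 ∨ r = 5 ∨ r = 7 ∨ r = 13 := by
  rw [card_SzExt]
  constructor
  · intro h
    have h' : r ∣ 2 ^ 6 * 3 * 5 * 7 * 13 := by norm_num; exact h
    have e : ∀ {p : ℕ}, p.Prime → r ∣ p → r = p := fun hp hd => (Nat.prime_dvd_prime_iff_eq hr hp).1 hd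
    rcases hr.dvd_mul.1 h' with h' | h'
    rcases hr.dvd_mul.1 h' with h' | h'
    rcases hr.dvd_mul.1 h' with h' | h'
    rcases hr.dvd_mul.1 h' with h' | h'
    · exact Or.inl (e Nat.prime_two (hr.dvd_of_dvd_pow h'))
    · exact Or.inr (Or.inl (e Nat.prime_three h'))
    · exact Or.inr (Or.inr (Or.inl (e Nat.prime_five h')))
    · exact Or.inr (Or.inr (Or.inr (Or.inl (e (by norm_num) h'))))
    · exact Or.inr (Or.inr (Or.inr (Or.inr (e (by norm_num) h'))))
  · rintro (rfl | rfl | rfl | rfl | rfl) <;> norm_num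

/-- Groups of unbounded order with exactly these edges. -/
theorem exists_large (N : ℕ) :
    ∃ (H : Type) (_ : Group H) (_ : Finite H), N < Nat.card H ∧
      (∀ r : ℕ, r.Prime → (r ∣ Nat.card H ↔ r = 2 ∨ r = 3 ∨ r = 5 ∨ r = 7 ∨ r = 13)) ∧
      (∀ r s : ℕ, r.Prime → s.Prime → r ≠ s → ((∃ h : H, orderOf h = r * s) ↔ IsEdge r s)) := by
  classical
  let W := (Fin (N + 1) → Mod) ⋊[PrimeGraph.piAction extRep (Fin (N + 1))] SzExt
  haveI : Finite Mod := inferInstanceAs (Finite M4)
  haveI : Finite W := Finite.of_equiv _ SemidirectProduct.equivProd.symm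
  obtain ⟨H, iH, fH, ⟨e⟩⟩ := PrimeGraph.exists_type_zero_model W
  have hMod2 : Nat.card Mod = 8 ^ 16 := by
    show Nat.card (Fin 4 → Fin 4 → F8) = _
    rw [Nat.card_fun, Nat.card_fun, Nat.card_fin, Nat.card_eq_fintype_card, card_f8, ← pow_mul]
  have hcard : Nat.card W = (8 ^ 16) ^ (N + 1) * Nat.card SzExt := by
    rw [SemidirectProduct.card, Nat.card_fun, Nat.card_fin, hMod2]
  have hdvdW : ∀ r : ℕ, r.Prime → (r ∣ Nat.card W ↔ r = 2 ∨ r = 3 ∨ r = 5 ∨ r = 7 ∨ r = 13) := by
    intro r hr
    rw [hcard, hr.dvd_mul, prime_dvd_ext hr]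
    refine ⟨fun h => h.elim (fun h1 => Or.inl ?_) id, Or.inr⟩
    exact (Nat.prime_dvd_prime_iff_eq hr Nat.prime_two).1
      (hr.dvd_of_dvd_pow (show r ∣ 2 ^ 3 from hr.dvd_of_dvd_pow (hr.dvd_of_dvd_pow h1)))
  refine ⟨H, iH, fH, ?_, fun r hr => ?_, fun r s hr hs hrs => ?_⟩
  · rw [← Nat.card_congr e.toEquiv, hcard]
    calc N < 2 ^ (N + 1) := (Nat.lt_succ_self N).trans Nat.lt_two_pow_self
      _ ≤ (8 ^ 16) ^ (N + 1) := Nat.pow_le_pow_left (by norm_num) _
      _ ≤ _ := Nat.le_mul_of_pos_right _ Nat.card_pos
  · rw [← Nat.card_congr e.toEquiv]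
    exact hdvdW r hr
  have hMW : ∀ w : Fin (N + 1) → Mod, w ^ 2 = 1 := fun w => funext fun i => mod_sq _
  have hedge : ∀ {p t : ℕ}, p.Prime → t.Prime → p ≠ t → ∀ (x y : W), orderOf x = p → orderOf y = t →
      Commute x y → ∃ h : H, orderOf h = p * t := by
    intro p t hp ht hpt x y hx hy hc
    obtain ⟨g, hg⟩ := PrimeGraph.exists_orderOf_eq_mul_of_commute hp ht hpt hx hy hc
    exact ⟨e g, by rw [MulEquiv.orderOf_eq, hg]⟩
  have hfixed : ∀ (m : Mod) (g : SzExt) {t : ℕ}, m ≠ 1 → extRep g m = m → orderOf g = t → t.Prime → t ≠ 2 →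
      ∃ h : H, orderOf h = 2 * t := by
    intro m g t hm hgm hog ht ht2
    haveI : Fact (Nat.Prime 2) := ⟨Nat.prime_two⟩
    refine hedge Nat.prime_two ht ht2.symm (SemidirectProduct.inl (fun _ => m)) (SemidirectProduct.inr g)
      ?_ ?_ ?_
    · rw [orderOf_injective _ SemidirectProduct.inl_injective]
      exact orderOf_eq_prime (hMW _) (fun h => hm (congrFun h 0))
    · rw [orderOf_injective _ SemidirectProduct.inr_injective, hog]
    · show _ * _ = _ * _
      refine SemidirectProduct.ext (funext fun i => ?_) ?_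
      · show m * (extRep 1) 1 = 1 * (extRep g) m
        rw [map_one, mul_one, one_mul, hgm]
      · show (1 : SzExt) * g = g * 1
        rw [one_mul, mul_one]
  constructor
  · rintro ⟨h, hh⟩
    have hx : orderOf (e.symm h) = r * s := by rw [MulEquiv.orderOf_eq, hh]
    set x := e.symm h
    have hr' := (hdvdW r hr).1 ((hx ▸ dvd_mul_right r s : r ∣ orderOf x).trans (orderOf_dvd_natCard x))
    have hs' := (hdvdW s hs).1 ((hx ▸ dvd_mul_left s r : s ∣ orderOf x).trans (orderOf_dvd_natCard x))
    -- the kernel has exponent two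
    have himg : ∀ {p t : ℕ}, p.Prime → (t = 7 ∨ t = 13) → p ≠ t → orderOf x = p * t →
        p = 2 ∧ t = 7 := by
      intro p t hp ht hpt hxo
      have htp : t.Prime := by rcases ht with rfl | rfl <;> norm_num
      set d := orderOf (SemidirectProduct.rightHom x) with hd
      have hdvd : d ∣ p * t := hxo ▸ orderOf_map_dvd SemidirectProduct.rightHom x
      have hxp : x ^ (d * 2) = 1 := by
        rw [pow_mul]
        obtain ⟨w, hw⟩ : x ^ d ∈ (SemidirectProduct.inl : (Fin (N + 1) → Mod) →* W).range := by
          rw [SemidirectProduct.range_inl_eq_ker_rightHom]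
          exact (by rw [MonoidHom.mem_ker, map_pow, hd, pow_orderOf_eq_one])
        rw [← hw, ← map_pow, hMW, map_one]
      have hpt_dvd : p * t ∣ d * 2 := hxo ▸ orderOf_dvd_of_pow_eq_one hxp
      have htd : t ∣ d := (htp.dvd_mul.1 ((dvd_mul_left t p).trans hpt_dvd)).resolve_right (fun h2 => by
        have := (Nat.prime_dvd_prime_iff_eq htp Nat.prime_two).1 h2
        omega)
      have hdt : d = t := by
        obtain ⟨c, hc⟩ := htd
        have hcp : c ∣ p := Nat.dvd_of_mul_dvd_mul_left htp.pos (by rw [← hc, mul_comm t p]; exact hdvd)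
        rcases (Nat.dvd_prime hp).1 hcp with rfl | rfl
        · rw [hc, mul_one]
        · exact absurd (by rw [← hd, hc, mul_comm]) (no_edge ht hp hpt.symm (SemidirectProduct.rightHom x))
      have hp2 : p = 2 := by
        rw [hdt, mul_comm p t] at hpt_dvd
        exact (Nat.prime_dvd_prime_iff_eq hp Nat.prime_two).1 (Nat.dvd_of_mul_dvd_mul_left htp.pos hpt_dvd)
      refine ⟨hp2, ht.resolve_right fun h13 => ?_⟩
      subst hp2 h13
      -- a fixed vector of an element of order thirteen
      have hne : x ^ 13 ≠ 1 := fun h1 => by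
        have := orderOf_dvd_of_pow_eq_one h1
        rw [hxo] at this
        norm_num at this
      have hright : (x ^ 13).right = 1 := by
        show SemidirectProduct.rightHom (x ^ 13) = 1
        rw [map_pow, ← hdt, hd, pow_orderOf_eq_one]
      obtain ⟨i, hi⟩ : ∃ i, (x ^ 13).left i ≠ 1 :=
        Function.ne_iff.1 fun h1 => hne (SemidirectProduct.ext h1 hright)
      have hc := congrArg SemidirectProduct.left (Commute.self_pow x 13).eq
      rw [SemidirectProduct.mul_left, SemidirectProduct.mul_left, hright, map_one, MulAut.one_apply,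
        mul_comm] at hc
      exact hi (eq_one_of_fixed (hd.symm.trans hdt) (congrFun (mul_right_cancel hc) i))
    rcases hr' with rfl | rfl | rfl | rfl | rfl <;> rcases hs' with rfl | rfl | rfl | rfl | rfl <;>
      first
      | exact absurd rfl hrs
      | (left; rfl)
      | (right; left; rfl)
      | (right; right; left; rfl)
      | (right; right; right; rfl)
      | exact absurd (himg hr (Or.inl rfl) hrs hx) (by norm_num)
      | exact absurd (himg hr (Or.inr rfl) hrs hx) (by norm_num)
      | exact absurd (himg hs (Or.inl rfl) hrs.symm (hx.trans (mul_comm _ _))) (by norm_num)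
      | exact absurd (himg hs (Or.inr rfl) hrs.symm (hx.trans (mul_comm _ _))) (by norm_num)
  · intro hE
    have key : ∀ n : ℕ, n = 6 ∨ n = 10 ∨ n = 14 ∨ n = 15 → ∃ h : H, orderOf h = n := by
      rintro n (rfl | rfl | rfl | rfl)
      · exact hfixed vecForm elField (t := 3)
          (fun h => fixed_checks.2.2.2.2.1 (congrArg Multiplicative.toAdd h))
          (by
            rw [extRep, elField, SemidirectProduct.lift_inr]
            exact congrArg Multiplicative.ofAdd fixed_checks.2.2.1)
          orderOf_elField Nat.prime_three (by norm_num)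
      · exact hfixed vecForm (SemidirectProduct.inl elFive) (t := 5)
          (fun h => fixed_checks.2.2.2.2.1 (congrArg Multiplicative.toAdd h))
          (by
            rw [extRep, SemidirectProduct.lift_inl]
            exact congrArg Multiplicative.ofAdd fixed_checks.1)
          (by rw [orderOf_injective _ SemidirectProduct.inl_injective, orderOf_elFive])
          Nat.prime_five (by norm_num)
      · exact hfixed vecSeven (SemidirectProduct.inl elSeven) (t := 7)
          (fun h => fixed_checks.2.2.2.2.2 (congrArg Multiplicative.toAdd h))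
          (by
            rw [extRep, SemidirectProduct.lift_inl]
            exact congrArg Multiplicative.ofAdd fixed_checks.2.1)
          (by rw [orderOf_injective _ SemidirectProduct.inl_injective, orderOf_elSeven])
          (by norm_num) (by norm_num)
      · exact hedge Nat.prime_three Nat.prime_five (by norm_num) (SemidirectProduct.inr elField)
          (SemidirectProduct.inr (SemidirectProduct.inl elFive))
          (by rw [orderOf_injective _ SemidirectProduct.inr_injective, orderOf_elField])
          (by rw [orderOf_injective _ SemidirectProduct.inr_injective,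
            orderOf_injective _ SemidirectProduct.inl_injective, orderOf_elFive])
          (commute_five.symm.map SemidirectProduct.inr)
    exact key _ hE

end CfsgLib.PrimeGraph67.SzEight
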