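import Cfsg.Agent.PrimeGraph67.UThreeFourData
import Cfsg.Agent.PrimeGraph.ModuleExtension
import Cfsg.Agent.S0279
import Cfsg.Agent.S0280

/-!
# Groups with the prime graph of U₃(4)

The module: functions on the isotropic points orthogonal modulo 5 to all chords, read through their
differences (so that constants disappear). An element of order 13 fixes no nonzero vector of it.
-/

set_option autoImplicit false
set_option maxRecDepth 100000
set_option linter.style.haveILetI false

namespace CfsgLib.PrimeGraph67.UThreeFour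

open Matrix CfsgLib.PrimeGraph67.K16
open scoped MatrixGroups

local notation "V3" => Fin 3 → K16
local notation "GU34" => Cfsg.SU 3 K16 4

/-- The scalar dividing a nonzero vector. -/
def lead (v : V3) : K16 := if v 0 = 0 then (if v 1 = 0 then v 2 else v 1) else v 0

/-- The normalised multiple of a vector. -/
def norm3 (v : V3) : V3 := (lead v)⁻¹ • v

/-- The Hermitian form. -/
def herm (u v : V3) : K16 :=
  u 0 * (v 0 * v 0 * (v 0 * v 0)) + u 1 * (v 1 * v 1 * (v 1 * v 1)) + u 2 * (v 2 * v 2 * (v 2 * v 2))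

theorem herm_eq (u v : V3) : Cfsg.hermForm 3 K16 4 u v = herm u v := by
  simp only [Cfsg.hermForm, Fin.sum_univ_three, herm, show ∀ a : K16, a ^ 4 = a * a * (a * a) from
    fun a => by ring]

theorem lead_smul {c : K16} (hc : c ≠ 0) (v : V3) : lead (c • v) = c * lead v := by
  simp only [lead, Pi.smul_apply, smul_eq_mul, mul_eq_zero, hc, false_or]
  split_ifs <;> rfl

theorem lead_ne_zero {v : V3} (hv : v ≠ 0) : lead v ≠ 0 := by
  simp only [lead]
  split_ifs with h0 h1
  · intro h2
    exact hv (funext fun i => by fin_cases i <;> assumption)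
  · exact h1
  · exact h0

theorem norm3_smul {c : K16} (hc : c ≠ 0) (v : V3) : norm3 (c • v) = norm3 v := by
  rw [norm3, norm3, lead_smul hc, smul_smul, mul_inv, mul_comm c⁻¹, mul_assoc,
    inv_mul_cancel₀ hc, mul_one]

theorem smul_norm3 {v : V3} (hv : v ≠ 0) : lead v • norm3 v = v := by
  rw [norm3, smul_smul, mul_inv_cancel₀ (lead_ne_zero hv), one_smul]

theorem lead_norm3 {v : V3} (hv : v ≠ 0) : lead (norm3 v) = 1 := by
  rw [norm3, lead_smul (inv_ne_zero (lead_ne_zero hv)), inv_mul_cancel₀ (lead_ne_zero hv)]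

theorem herm_smul_left (c : K16) (u v : V3) : herm (c • u) v = c * herm u v := by
  simp only [herm, Pi.smul_apply, smul_eq_mul]; ring

theorem herm_smul_right (c : K16) (u v : V3) : herm u (c • v) = c ^ 4 * herm u v := by
  simp only [herm, Pi.smul_apply, smul_eq_mul]; ring

/-- The isotropic points. -/
abbrev Pt : Type := {v : V3 // lead v = 1 ∧ herm v v = 0}

noncomputable instance (priority := high) instFintypePt : Fintype Pt := Fintype.ofFinite _

theorem Pt.ne_zero (x : Pt) : x.1 ≠ 0 := fun h => by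
  have := x.2.1
  rw [h] at this
  simp [lead] at this

theorem norm3_pt (x : Pt) : norm3 x.1 = x.1 := by
  rw [norm3, x.2.1, inv_one, one_smul]

/-- The matrix of an element. -/
abbrev mat (g : GU34) : Matrix (Fin 3) (Fin 3) K16 := (g : SL(3, K16)).1

theorem mat_one : mat 1 = 1 := rfl

theorem mat_mul (g h : GU34) : mat (g * h) = mat g * mat h := rfl

theorem herm_mulVec (g : GU34) (u v : V3) : herm (mat g *ᵥ u) (mat g *ᵥ v) = herm u v := by
  rw [← herm_eq, ← herm_eq]
  exact g.2 u v

theorem mulVec_ne_zero (g : GU34) {v : V3} (hv : v ≠ 0) : mat g *ᵥ v ≠ 0 := fun h => hv (by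
  have := congrArg (fun z => mat g⁻¹ *ᵥ z) h
  simpa [mulVec_mulVec, ← mat_mul, mat_one] using this)

/-- Action on the isotropic points. -/
instance instActionPt : MulAction GU34 Pt where
  smul g x := ⟨norm3 (mat g *ᵥ x.1), lead_norm3 (mulVec_ne_zero g x.ne_zero), by
    rw [norm3, herm_smul_left, herm_smul_right, herm_mulVec, x.2.2, mul_zero, mul_zero]⟩
  one_smul x := Subtype.ext (show norm3 (mat 1 *ᵥ x.1) = x.1 by rw [mat_one, one_mulVec, norm3_pt])
  mul_smul g h x := Subtype.ext (show norm3 (mat (g * h) *ᵥ x.1) =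
      norm3 (mat g *ᵥ norm3 (mat h *ᵥ x.1)) by
    have h0 := mulVec_ne_zero h x.ne_zero
    conv_lhs => rw [mat_mul, ← mulVec_mulVec, ← smul_norm3 h0, mulVec_smul,
      norm3_smul (lead_ne_zero h0)])

theorem coe_smul (g : GU34) (x : Pt) : (g • x).1 = norm3 (mat g *ᵥ x.1) := rfl

theorem incidence_smul (g : GU34) (P : V3) (x : Pt) :
    herm (mat g *ᵥ P) (g • x).1 = 0 ↔ herm P x.1 = 0 := by
  rw [coe_smul, norm3, herm_smul_right, herm_mulVec, mul_eq_zero,
    or_iff_right (pow_ne_zero 4 (inv_ne_zero (lead_ne_zero (mulVec_ne_zero g x.ne_zero))))]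

/-- Functions orthogonal modulo five to all chords. -/
def chordPerp : AddSubgroup (Pt → ZMod 5) where
  carrier := {f | ∀ P : V3, herm P P ≠ 0 → ∑ x : Pt, (if herm P x.1 = 0 then f x else 0) = 0}
  zero_mem' := fun P _ => Finset.sum_eq_zero fun x _ => ite_self (0 : ZMod 5)
  add_mem' {f f'} hf hf' := by
    intro P hP
    have e : ∑ x : Pt, (if herm P x.1 = 0 then (f + f') x else 0) =
        (∑ x : Pt, (if herm P x.1 = 0 then f x else 0)) +
          ∑ x : Pt, (if herm P x.1 = 0 then f' x else 0) := by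
      rw [← Finset.sum_add_distrib]
      exact Finset.sum_congr rfl fun x _ => by split_ifs <;> simp
    rw [e, hf P hP, hf' P hP, add_zero]
  neg_mem' {f} hf := by
    intro P hP
    have e : ∑ x : Pt, (if herm P x.1 = 0 then (-f) x else 0) =
        -∑ x : Pt, (if herm P x.1 = 0 then f x else 0) := by
      rw [← Finset.sum_neg_distrib]
      exact Finset.sum_congr rfl fun x _ => by split_ifs <;> simp
    rw [e, hf P hP, neg_zero]

theorem comp_mem {f : Pt → ZMod 5} (hf : f ∈ chordPerp) (g : GU34) :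
    (fun x => f (g⁻¹ • x)) ∈ chordPerp := by
  intro P hP
  rw [← Equiv.sum_comp (MulAction.toPerm g : Equiv.Perm Pt)]
  refine Eq.trans (Finset.sum_congr rfl fun x _ => ?_)
    (hf (mat g⁻¹ *ᵥ P) (by rwa [herm_mulVec]))
  simp only [MulAction.toPerm_apply, inv_smul_smul]
  have := incidence_smul g (mat g⁻¹ *ᵥ P) x
  rw [mulVec_mulVec, ← mat_mul, mul_inv_cancel, mat_one, one_mulVec] at this
  simp only [this]

/-- Differences of the values of a function. -/
def diffHom : (Pt → ZMod 5) →+ (Pt × Pt → ZMod 5) where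
  toFun f p := f p.1 - f p.2
  map_zero' := by funext p; simp
  map_add' f f' := by funext p; simp only [Pi.add_apply]; abel

/-- The module. -/
def moduleSub : AddSubgroup (Pt × Pt → ZMod 5) := chordPerp.map diffHom

theorem act_mem {f : Pt × Pt → ZMod 5} (hf : f ∈ moduleSub) (g : GU34) :
    (fun p => f (g⁻¹ • p.1, g⁻¹ • p.2)) ∈ moduleSub := by
  obtain ⟨d, hd, rfl⟩ := hf
  exact ⟨_, comp_mem hd g, rfl⟩

/-- The action on the module. -/
def moduleAct : GU34 →* MulAut (Multiplicative moduleSub) where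
  toFun g :=
    { toFun := fun v => Multiplicative.ofAdd
        (⟨fun p => v.toAdd.1 (g⁻¹ • p.1, g⁻¹ • p.2), act_mem v.toAdd.2 g⟩ : moduleSub)
      invFun := fun v => Multiplicative.ofAdd
        (⟨fun p => v.toAdd.1 (g • p.1, g • p.2), by simpa using act_mem v.toAdd.2 g⁻¹⟩ : moduleSub)
      left_inv := fun v => by
        apply Multiplicative.toAdd.injective
        apply Subtype.ext
        funext p
        simp
      right_inv := fun v => by
        apply Multiplicative.toAdd.injective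
        apply Subtype.ext
        funext p
        simp
      map_mul' := fun v w => rfl }
  map_one' := by
    ext v p
    show v.toAdd.1 ((1 : GU34)⁻¹ • p.1, (1 : GU34)⁻¹ • p.2) = v.toAdd.1 p
    simp
  map_mul' g h := by
    ext v p
    show v.toAdd.1 ((g * h)⁻¹ • p.1, (g * h)⁻¹ • p.2) =
      v.toAdd.1 (h⁻¹ • g⁻¹ • p.1, h⁻¹ • g⁻¹ • p.2)
    simp [mul_smul]

theorem moduleAct_fixed {g : GU34} {v : Multiplicative moduleSub} (h : moduleAct g v = v) (p : Pt × Pt) :
    v.toAdd.1 (g • p.1, g • p.2) = v.toAdd.1 p := by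
  have := congrArg (fun w : Multiplicative moduleSub => w.toAdd.1 (g • p.1, g • p.2)) h
  simpa [moduleAct] using this.symm

/-! ### The points -/

theorem pt_ok : ∀ i : Fin 65, lead (pt i) = 1 ∧ herm (pt i) (pt i) = 0 := by decide +kernel

/-- A point as an element of `Pt`. -/
def ptOf (i : Fin 65) : Pt := ⟨pt i, pt_ok i⟩

theorem shapes : (∀ a b : K16, herm ![1, a, b] ![1, a, b] = 0 → ∃ i : Fin 65, pt i = ![1, a, b]) ∧
    (∀ b : K16, herm ![0, 1, b] ![0, 1, b] = 0 → ∃ i : Fin 65, pt i = ![0, 1, b]) ∧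
    herm ![0, 0, (1 : K16)] ![0, 0, 1] ≠ 0 := by decide +kernel

theorem shape_cases {v : V3} (hv : lead v = 1) :
    (∃ a b, v = ![1, a, b]) ∨ (∃ b, v = ![0, 1, b]) ∨ v = ![0, 0, 1] := by
  simp only [lead] at hv
  split_ifs at hv with h0 h1
  · exact Or.inr (Or.inr (funext fun i => by fin_cases i <;> simp [h0, h1, hv]))
  · exact Or.inr (Or.inl ⟨v 2, funext fun i => by fin_cases i <;> simp [h0, hv]⟩)
  · exact Or.inl ⟨v 1, v 2, funext fun i => by fin_cases i <;> simp [hv]⟩

theorem ptOf_surjective : Function.Surjective ptOf := by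
  intro x
  obtain ⟨i, hi⟩ : ∃ i, pt i = x.1 := by
    obtain ⟨v, hl, hh⟩ := x
    rcases shape_cases hl with ⟨a, b, rfl⟩ | ⟨b, rfl⟩ | rfl
    · exact shapes.1 a b hh
    · exact shapes.2.1 b hh
    · exact absurd hh shapes.2.2
  exact ⟨i, Subtype.ext hi⟩

theorem pt_injective : Function.Injective pt := by
  have h : ∀ i j : Fin 65, pt i = pt j → i = j := by decide +kernel
  exact fun i j e => h i j e

/-- The numbering of the points. -/
noncomputable def ptEquiv : Fin 65 ≃ Pt :=
  Equiv.ofBijective ptOf ⟨fun _ _ h => pt_injective (congrArg Subtype.val h), ptOf_surjective⟩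

theorem sum_pt {M : Type*} [AddCommMonoid M] (f : Pt → M) : ∑ x, f x = ∑ i, f (ptOf i) :=
  (Equiv.sum_comp ptEquiv f).symm

/-! ### Elements -/

theorem mem_SU_of_eq (g : SL(3, K16)) (h : g.1ᵀ * g.1.map (fun x => x * x * (x * x)) = 1) :
    g ∈ GU34 := by
  have hadd : ∀ a b : K16, (a + b) * (a + b) * ((a + b) * (a + b)) = a * a * (a * a) + b * b * (b * b) := by
    decide +kernel
  have hform : ∀ u v : V3, Cfsg.hermForm 3 K16 4 u v = u ⬝ᵥ fun i => v i * v i * (v i * v i) :=
    fun u v => Finset.sum_congr rfl fun i _ => by ring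
  intro u v
  show Cfsg.hermForm 3 K16 4 (g.1 *ᵥ u) (g.1 *ᵥ v) = _
  rw [hform, hform]
  have e : (fun i => (g.1 *ᵥ v) i * (g.1 *ᵥ v) i * ((g.1 *ᵥ v) i * (g.1 *ᵥ v) i)) =
      g.1.map (fun x => x * x * (x * x)) *ᵥ fun i => v i * v i * (v i * v i) := by
    funext i
    simp only [Matrix.mulVec, dotProduct, Fin.sum_univ_three, hadd, Matrix.map_apply]
    ring
  rw [e, Matrix.dotProduct_mulVec, Matrix.vecMul_mulVec, h, Matrix.vecMul_one]

theorem exists_elem (A : Matrix (Fin 3) (Fin 3) K16) (hd : A.det = 1)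
    (hu : Aᵀ * A.map (fun x => x * x * (x * x)) = 1) : ∃ g : GU34, mat g = A :=
  ⟨⟨⟨A, hd⟩, mem_SU_of_eq ⟨A, hd⟩ hu⟩, rfl⟩

theorem orderOf_mat (g : GU34) : orderOf (mat g) = orderOf g :=
  orderOf_injective ((SpecialLinearGroup.coeMonoidHom).comp (Cfsg.SU 3 K16 4).subtype)
    (fun _ _ h => Subtype.ext (Subtype.ext h)) g

theorem orderOf_eq_mul {M : Type*} [Monoid M] {A : M} {p q : ℕ} (hp : p.Prime) (hq : q.Prime)
    (h : A ^ (p * q) = 1) (h1 : A ^ p ≠ 1) (h2 : A ^ q ≠ 1) : orderOf A = p * q := by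
  obtain ⟨a, b, ha, hb, hab⟩ := Nat.dvd_mul.1 (orderOf_dvd_of_pow_eq_one h)
  rcases (Nat.dvd_prime hp).1 ha with rfl | rfl <;> rcases (Nat.dvd_prime hq).1 hb with rfl | rfl
  · exact absurd (orderOf_eq_one_iff.1 (hab.symm.trans (one_mul 1))) (fun e => h1 (by rw [e, one_pow]))
  · exact absurd (orderOf_dvd_iff_pow_eq_one.1 (hab.symm.trans (one_mul b)).dvd) h2
  · exact absurd (orderOf_dvd_iff_pow_eq_one.1 (hab.symm.trans (mul_one a)).dvd) h1
  · exact hab.symm

theorem exists_orderOf_ten : ∃ g : GU34, orderOf g = 5 * 2 := by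
  obtain ⟨g, hg⟩ := exists_elem matTen (by rw [Matrix.det_fin_three]; decide +kernel) (by decide +kernel)
  refine ⟨g, ?_⟩
  rw [← orderOf_mat, hg]
  exact orderOf_eq_mul Nat.prime_five Nat.prime_two (by decide +kernel) (by decide +kernel)
    (by decide +kernel)

theorem exists_orderOf_fifteen : ∃ g : GU34, orderOf g = 5 * 3 := by
  obtain ⟨g, hg⟩ := exists_elem matFifteen (by rw [Matrix.det_fin_three]; decide +kernel)
    (by decide +kernel)
  refine ⟨g, ?_⟩
  rw [← orderOf_mat, hg]
  exact orderOf_eq_mul Nat.prime_five Nat.prime_three (by decide +kernel) (by decide +kernel)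
    (by decide +kernel)

/-- The numbering of the points by orbit and position. -/
def orbEquiv : Fin 5 × Fin 13 ≃ Fin 65 := finProdFinEquiv

/-- The successor of a point along its orbit. -/
def nextPt (i : Fin 65) : Fin 65 :=
  if i.val % 13 = 12 then Fin.ofNat 65 (i.val - 12) else Fin.ofNat 65 (i.val + 1)

theorem thirteen_step : ∀ i : Fin 65, norm3 (matThirteen *ᵥ pt i) = pt (nextPt i) := by decide +kernel

theorem counts_ok : ∀ k : Fin 4, herm (testPoints.getD k 0) (testPoints.getD k 0) ≠ 0 ∧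
    ∀ j : Fin 5, (∑ i : Fin 13, if herm (testPoints.getD k 0) (pt (orbEquiv (j, i))) = 0
      then (1 : ZMod 5) else 0) = (testCounts.getD k []).getD j 0 := by
  decide +kernel

theorem system_ok : ∀ a b c d e : ZMod 5,
    (∀ k : Fin 4, (testCounts.getD k []).getD 0 0 * a + (testCounts.getD k []).getD 1 0 * b +
      (testCounts.getD k []).getD 2 0 * c + (testCounts.getD k []).getD 3 0 * d +
      (testCounts.getD k []).getD 4 0 * e = 0) → b = a ∧ c = a ∧ d = a ∧ e = a := by
  decide +kernel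

theorem prodEquiv_val (j : Fin 5) (i : Fin 13) : ((orbEquiv (j, i) : Fin 65) : ℕ) = i.val + 13 * j.val :=
  rfl

/-- An element of the module fixed by an element of order thirteen is zero. -/
theorem fixed_thirteen {g : GU34} (hg : mat g = matThirteen) {v : Multiplicative moduleSub}
    (h : moduleAct g v = v) : v = 1 := by
  obtain ⟨d, hd, hdv⟩ := v.toAdd.2
  have hval : ∀ x y, v.toAdd.1 (x, y) = d x - d y := fun x y => by rw [← hdv]; rfl
  have hc : ∀ x y, d (g • x) - d x = d (g • y) - d y := fun x y => by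
    have := moduleAct_fixed h (x, y)
    simp only [hval] at this
    linear_combination this
  have hnext : ∀ i, g • ptOf i = ptOf (nextPt i) := fun i =>
    Subtype.ext (by rw [coe_smul, hg]; exact thirteen_step i)
  set a := d (g • ptOf 0) - d (ptOf 0) with ha
  have hs : ∀ i, d (ptOf (nextPt i)) = d (ptOf i) + a := fun i => by
    rw [← hnext, ha, hc (ptOf 0) (ptOf i)]; ring
  have hlin : ∀ (j : Fin 5) (k : ℕ) (hk : k < 13),
      d (ptOf (orbEquiv (j, ⟨k, hk⟩))) = d (ptOf (orbEquiv (j, (0 : Fin 13)))) + k * a := by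
    intro j k
    induction k with
    | zero => intro _; simp
    | succ k ih =>
      intro hk
      have e : nextPt (orbEquiv (j, ⟨k, by omega⟩)) = orbEquiv (j, ⟨k + 1, hk⟩) := by
        have hk' : (k + 13 * j.val) % 13 = k := by omega
        apply Fin.ext
        have hj := j.isLt
        simp only [nextPt, prodEquiv_val, hk']
        rw [if_neg (by omega), Fin.val_ofNat, Nat.mod_eq_of_lt (by omega)]
        omega
      rw [← e, hs, ih (by omega), Nat.cast_succ]
      ring
  have ha0 : a = 0 := by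
    have e : nextPt (orbEquiv ((0 : Fin 5), ⟨12, by omega⟩)) = orbEquiv ((0 : Fin 5), (0 : Fin 13)) := by
      decide
    have h1 := hs (orbEquiv ((0 : Fin 5), ⟨12, by omega⟩))
    rw [e, hlin 0 12 (by omega)] at h1
    have h13 : (13 : ZMod 5) * a = 0 := by push_cast at h1; linear_combination -h1
    exact (by decide : ∀ x : ZMod 5, 13 * x = 0 → x = 0) a h13
  have hconst : ∀ (j : Fin 5) (i : Fin 13),
      d (ptOf (orbEquiv (j, i))) = d (ptOf (orbEquiv (j, (0 : Fin 13)))) := fun j i => by
    rw [hlin j i i.isLt, ha0, mul_zero, add_zero]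
  set b : Fin 5 → ZMod 5 := fun j => d (ptOf (orbEquiv (j, (0 : Fin 13)))) with hb
  have heq : ∀ k : Fin 4, (testCounts.getD k []).getD 0 0 * b 0 + (testCounts.getD k []).getD 1 0 * b 1 +
      (testCounts.getD k []).getD 2 0 * b 2 + (testCounts.getD k []).getD 3 0 * b 3 +
      (testCounts.getD k []).getD 4 0 * b 4 = 0 := fun k => by
    have h1 := hd _ (counts_ok k).1
    rw [sum_pt, ← orbEquiv.sum_comp, Fintype.sum_prod_type] at h1
    have h2 : ∀ j : Fin 5, (∑ i : Fin 13,
        if herm (testPoints.getD k 0) (ptOf (orbEquiv (j, i))).1 = 0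
          then d (ptOf (orbEquiv (j, i))) else 0) = (testCounts.getD k []).getD j 0 * b j := by
      intro j
      rw [← (counts_ok k).2 j, Finset.sum_mul]
      refine Finset.sum_congr rfl fun i _ => ?_
      rw [ite_mul, one_mul, zero_mul, hconst j i]
      rfl
    simp only [h2, Fin.sum_univ_five] at h1
    exact h1
  obtain ⟨h1, h2, h3, h4⟩ := system_ok _ _ _ _ _ heq
  have hall : ∀ x : Pt, d x = b 0 := by
    intro x
    obtain ⟨i, rfl⟩ := ptOf_surjective x
    obtain ⟨⟨j, l⟩, rfl⟩ := orbEquiv.surjective i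
    rw [hconst]
    fin_cases j <;> first | rfl | exact h1 | exact h2 | exact h3 | exact h4
  apply Multiplicative.toAdd.injective
  apply Subtype.ext
  funext p
  rw [hval p.1 p.2, hall, hall, sub_self]
  rfl

theorem card_GU34 : Nat.card GU34 = 62400 := by
  have hF : Fintype.card K16 = 4 ^ 2 := by rw [K16.card_eq]; rfl
  have h := Cfsg.Agent.S0280.result hF 3 (by norm_num)
  have hz := Cfsg.Agent.S0279.result hF 3 le_rfl
  rw [Subgroup.card_eq_card_quotient_mul_card_subgroup (Subgroup.center GU34), hz]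
  rw [show Nat.gcd 3 (4 + 1) = 1 from rfl] at h ⊢
  norm_num [Finset.prod_range_succ] at h ⊢
  change 5 * Nat.card (GU34 ⧸ Subgroup.center GU34) = _ at h
  omega

theorem center_eq_bot : Subgroup.center GU34 = ⊥ :=
  Subgroup.card_eq_one.1 (by
    rw [Cfsg.Agent.S0279.result (F := K16) (q := 4) (by rw [K16.card_eq]; rfl) 3 le_rfl]; rfl)

theorem eq_one_of_fixed {g : GU34} (hg : orderOf g = 13) {v : Multiplicative moduleSub}
    (h : moduleAct g v = v) : v = 1 := by
  obtain ⟨y, hy⟩ := exists_elem matThirteen (by rw [Matrix.det_fin_three]; decide +kernel)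
    (by decide +kernel)
  haveI : Fact (Nat.Prime 13) := ⟨by norm_num⟩
  have hoy : orderOf y = 13 := by
    rw [← orderOf_mat, hy]
    exact orderOf_eq_prime (by decide +kernel) (by decide +kernel)
  have hfac : (Nat.card GU34).factorization 13 = 1 := by
    rw [card_GU34, show (62400 : ℕ) = 4800 * 13 by norm_num,
      Nat.factorization_mul (by norm_num) (by norm_num), Finsupp.add_apply,
      Nat.factorization_eq_zero_of_not_dvd (by norm_num : ¬ 13 ∣ 4800),
      Nat.Prime.factorization_self (by norm_num)]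
  let P : Sylow 13 GU34 := Sylow.ofCard (Subgroup.zpowers g) (by
    rw [Nat.card_zpowers, hg, hfac, pow_one])
  let Q : Sylow 13 GU34 := Sylow.ofCard (Subgroup.zpowers y) (by
    rw [Nat.card_zpowers, hoy, hfac, pow_one])
  obtain ⟨c, hc⟩ := MulAction.exists_smul_eq GU34 Q P
  have hmem : c * y * c⁻¹ ∈ Subgroup.zpowers g := by
    show c * y * c⁻¹ ∈ (P : Subgroup GU34)
    rw [← hc, Sylow.coe_subgroup_smul]
    exact ⟨y, Subgroup.mem_zpowers y, rfl⟩
  obtain ⟨i, hi⟩ := Submonoid.mem_powers_iff _ _ |>.1 (mem_powers_iff_mem_zpowers.2 hmem)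
  have hfix : ∀ j : ℕ, moduleAct (g ^ j) v = v := fun j => by
    induction j with
    | zero => simp
    | succ j ih => rw [pow_succ, map_mul, MulAut.mul_apply, h, ih]
  have h1 := hfix i
  rw [hi, map_mul, map_mul, map_inv, MulAut.mul_apply, MulAut.mul_apply] at h1
  have h2 : moduleAct y ((moduleAct c)⁻¹ v) = (moduleAct c)⁻¹ v := by
    have := congrArg (fun z => (moduleAct c)⁻¹ z) h1
    simpa using this
  have h3 := fixed_thirteen hy h2
  have := congrArg (fun z => moduleAct c z) h3
  simpa using this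

/-! ### A nonzero element -/

theorem dData_perp : (∀ a b : K16, herm ![1, a, b] ![1, a, b] ≠ 0 →
      (∑ i : Fin 65, if herm ![1, a, b] (pt i) = 0 then dData.getD i.val 0 else 0) = 0) ∧
    (∀ b : K16, herm ![0, 1, b] ![0, 1, b] ≠ 0 →
      (∑ i : Fin 65, if herm ![0, 1, b] (pt i) = 0 then dData.getD i.val 0 else 0) = 0) ∧
    (∑ i : Fin 65, if herm ![0, 0, 1] (pt i) = 0 then dData.getD i.val 0 else 0) = 0 := by
  decide +kernel

theorem nontrivial_module : Nontrivial (Multiplicative moduleSub) := by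
  let d : Pt → ZMod 5 := fun x => dData.getD (ptEquiv.symm x).val 0
  have hd' : ∀ i, d (ptOf i) = dData.getD i.val 0 := fun i => by
    show dData.getD (ptEquiv.symm (ptEquiv i)).val 0 = _
    rw [Equiv.symm_apply_apply]
  have hd : d ∈ chordPerp := by
    intro P hP
    have hP0 : P ≠ 0 := fun e => hP (by simp [e, herm])
    have hl := inv_ne_zero (lead_ne_zero hP0)
    have key : ∀ x : Pt, (herm P x.1 = 0 ↔ herm (norm3 P) x.1 = 0) := fun x => by
      rw [norm3, herm_smul_left, mul_eq_zero, or_iff_right hl]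
    have hP' : herm (norm3 P) (norm3 P) ≠ 0 := by
      rw [norm3, herm_smul_left, herm_smul_right]
      exact mul_ne_zero hl (mul_ne_zero (pow_ne_zero 4 hl) hP)
    rw [sum_pt, Finset.sum_congr rfl fun i _ => if_congr (key (ptOf i)) rfl rfl]
    simp only [hd', show ∀ i, (ptOf i).1 = pt i from fun i => rfl]
    rcases shape_cases (lead_norm3 hP0) with ⟨a, b, e⟩ | ⟨b, e⟩ | e <;> rw [e] at hP' ⊢
    · exact dData_perp.1 a b hP'
    · exact dData_perp.2.1 b hP'
    · exact dData_perp.2.2
  refine ⟨Multiplicative.ofAdd (⟨diffHom d, d, hd, rfl⟩ : moduleSub), 1, fun e => ?_⟩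
  have := congrArg (fun w : Multiplicative moduleSub => w.toAdd.1 (ptOf 0, ptOf 1)) e
  have h01 : d (ptOf 0) - d (ptOf 1) = 0 := this
  rw [hd', hd'] at h01
  exact absurd h01 (by decide)

/-- Groups of unbounded order with the prime graph of U₃(4). -/
theorem exists_large_UThreeFour (N : ℕ) :
    ∃ (H : Type) (_ : Group H) (_ : Finite H), N < Nat.card H ∧
      (∀ r : ℕ, r.Prime → (r ∣ Nat.card GU34 ↔ r ∣ Nat.card H)) ∧
      (∀ r s : ℕ, r.Prime → s.Prime → r ≠ s →
        ((∃ g : GU34, orderOf g = r * s) ↔ (∃ g : H, orderOf g = r * s))) := by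
  haveI := nontrivial_module
  refine PrimeGraph.exists_large_same_graph moduleAct (V := Multiplicative moduleSub) Nat.prime_five
    (fun v => ?_) (by rw [card_GU34]; norm_num) ?_ N
  · apply Multiplicative.toAdd.injective
    apply Subtype.ext
    funext p
    show ((5 • v.toAdd : moduleSub) : Pt × Pt → ZMod 5) p = 0
    rw [AddSubgroup.coe_nsmul, Pi.smul_apply, nsmul_eq_mul]
    rw [show ((5 : ℕ) : ZMod 5) = 0 from rfl, zero_mul]
  · intro g r hr hr5 hg v hv hv1
    have hdvd : r ∣ 2 ^ 6 * 3 * 5 ^ 2 * 13 := by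
      rw [show 2 ^ 6 * 3 * 5 ^ 2 * 13 = 62400 by norm_num, ← card_GU34, ← hg]
      exact orderOf_dvd_natCard g
    rcases hr.dvd_mul.1 hdvd with h | h
    rcases hr.dvd_mul.1 h with h | h
    rcases hr.dvd_mul.1 h with h | h
    · rw [(Nat.prime_dvd_prime_iff_eq hr Nat.prime_two).1 (hr.dvd_of_dvd_pow h)]
      exact exists_orderOf_ten
    · rw [(Nat.prime_dvd_prime_iff_eq hr Nat.prime_three).1 h]
      exact exists_orderOf_fifteen
    · exact absurd ((Nat.prime_dvd_prime_iff_eq hr Nat.prime_five).1 (hr.dvd_of_dvd_pow h)) hr5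
    · rw [(Nat.prime_dvd_prime_iff_eq hr (by norm_num)).1 h] at hg
      exact absurd (eq_one_of_fixed hg hv) hv1

end CfsgLib.PrimeGraph67.UThreeFour
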