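import Mathlib
import Cfsg.Prelude.Def_Classical

/-!
# The field with sixteen elements and certificate data for U₃(4)

The data: the 65 isotropic points, ordered along the five orbits of an element of order 13, and a vector
orthogonal modulo 5 to all chords.
-/

set_option autoImplicit false

namespace CfsgLib.PrimeGraph67

/-- The field with sixteen elements, as nibbles modulo `x⁴ + x + 1`. -/
def K16 : Type := Fin 16

namespace K16

instance decEqK16 : DecidableEq K16 := inferInstanceAs (DecidableEq (Fin 16))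

instance fintypeK16 : Fintype K16 := inferInstanceAs (Fintype (Fin 16))

/-- An element from its code. -/
def el (n : Fin 16) : K16 := n

/-- The code of an element. -/
def code (a : K16) : ℕ := Fin.val (a : Fin 16)

/-- Addition. -/
def addK (a b : K16) : K16 := Fin.ofNat 16 (code a ^^^ code b)

/-- The packed multiplication table. -/
def mulTable : ℕ := 0xa5783ce1b4692df05ba48679c23d1fe07ae36bf258c149d0843fd16a2e957bc0386d92c74f1ae5b0c6b1285f394ed7a0e7f6c5d4a3b28190192a7f4cd5e6b380bc5243ad618f9e70428ef93517dbac6063c914be8d27fa509d15ae26fb73c8402147ed8b9afc5630df9b5713eca86420fedcba98765432100000000000000000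

/-- Multiplication. -/
def mulK (a b : K16) : K16 := Fin.ofNat 16 (mulTable >>> (4 * (16 * code a + code b)))

/-- Inversion. -/
def invK (a : K16) : K16 := el (([0, 1, 9, 14, 13, 11, 7, 6, 15, 2, 12, 5, 10, 4, 3, 8] : List (Fin 16)).getD (code a) 0)

instance zeroK16 : Zero K16 := ⟨el 0⟩

instance oneK16 : One K16 := ⟨el 1⟩

instance addInstK16 : Add K16 := ⟨addK⟩

instance mulInstK16 : Mul K16 := ⟨mulK⟩

instance negK16 : Neg K16 := ⟨fun a => a⟩

set_option maxRecDepth 100000 in
instance commRingK16 : CommRing K16 where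
  add := addK
  add_assoc := by decide +kernel
  zero := 0
  zero_add := by decide +kernel
  add_zero := by decide +kernel
  nsmul := nsmulRec
  add_comm := by decide +kernel
  mul := mulK
  left_distrib := by decide +kernel
  right_distrib := by decide +kernel
  zero_mul := by decide +kernel
  mul_zero := by decide +kernel
  mul_assoc := by decide +kernel
  one := 1
  one_mul := by decide +kernel
  mul_one := by decide +kernel
  neg := fun a => a
  zsmul := zsmulRec
  neg_add_cancel := by decide +kernel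
  mul_comm := by decide +kernel

instance fieldK16 : Field K16 where
  inv := invK
  exists_pair_ne := ⟨0, 1, by decide +kernel⟩
  mul_inv_cancel := by decide +kernel
  inv_zero := by decide +kernel
  nnqsmul := _
  nnqsmul_def := fun _ _ => rfl
  qsmul := _
  qsmul_def := fun _ _ => rfl

theorem card_eq : Fintype.card K16 = 16 := by decide +kernel

end K16

open K16

namespace UThreeFour

/-- An element of order thirteen. -/
def matThirteen : Matrix (Fin 3) (Fin 3) K16 := !![el 3, el 8, el 3; el 12, el 10, el 10; el 3, el 12, el 7]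

/-- An element of order ten. -/
def matTen : Matrix (Fin 3) (Fin 3) K16 := !![el 14, el 8, el 4; el 4, el 5, el 10; el 15, el 4, el 4]

/-- An element of order fifteen. -/
def matFifteen : Matrix (Fin 3) (Fin 3) K16 := !![el 1, el 5, el 4; el 14, el 5, el 12; el 9, el 1, el 6]

/-- The isotropic points as normalised vectors, orbit by orbit. -/
def ptData : List (Fin 16 × Fin 16 × Fin 16) :=
  [(0, 1, 1), (1, 0, 1), (0, 1, 15), (1, 14, 2), (1, 11, 5), (1, 4, 13), (1, 9, 3), (1, 2, 6),
   (1, 11, 6), (1, 9, 2), (1, 14, 11), (1, 2, 4), (1, 4, 3), (0, 1, 8), (1, 3, 14), (1, 14, 3),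
   (1, 13, 9), (1, 4, 7), (1, 10, 0), (1, 14, 7), (1, 7, 14), (1, 4, 2), (1, 3, 9), (0, 1, 10),
   (1, 5, 3), (1, 6, 2), (0, 1, 12), (1, 7, 9), (1, 3, 4), (1, 7, 6), (1, 8, 0), (1, 11, 4),
   (1, 0, 15), (1, 0, 8), (1, 2, 5), (1, 1, 0), (1, 13, 6), (1, 3, 5), (1, 13, 14), (1, 0, 10),
   (1, 12, 0), (1, 9, 11), (1, 5, 2), (1, 6, 7), (1, 5, 7), (1, 6, 3), (1, 9, 13), (1, 15, 0),
   (1, 0, 12), (1, 14, 13), (1, 3, 6), (1, 4, 11), (1, 2, 9), (1, 5, 13), (1, 6, 13), (1, 7, 4),
   (1, 9, 7), (1, 13, 5), (1, 5, 11), (1, 6, 11), (1, 11, 14), (1, 7, 5), (1, 11, 9), (1, 2, 14),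
   (1, 13, 4)]

/-- A point. -/
def pt (i : Fin 65) : Fin 3 → K16 :=
  ![el (ptData.getD i.val (0, 0, 0)).1, el (ptData.getD i.val (0, 0, 0)).2.1,
    el (ptData.getD i.val (0, 0, 0)).2.2]

/-- A vector orthogonal modulo five to every chord. -/
def dData : List (ZMod 5) := [1, 0, 4, 2, 0, 1, 3, 0, 1, 3, 4, 0, 4, 0, 0, 1, 3, 0, 0, 1, 2, 0, 1, 0, 0, 0, 0, 3, 0, 4, 2, 3, 2, 0, 0, 0, 0, 4, 0, 0, 4, 3, 0, 0, 4, 2, 1, 4, 3, 2, 0, 0, 0, 0, 1, 2, 0, 2, 1, 2, 3, 4, 3, 0, 0]

/-- The four test points. -/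
def testPoints : List (Fin 3 → K16) := [![el 1, el 15, el 3], ![el 1, el 15, el 15], ![el 1, el 14, el 6], ![el 1, el 15, el 12]]

/-- Incidences of the test points with the five orbits. -/
def testCounts : List (List (ZMod 5)) := [[0, 1, 2, 2, 0], [1, 0, 2, 2, 0], [2, 2, 0, 0, 1], [0, 2, 0, 2, 1]]

end UThreeFour

end CfsgLib.PrimeGraph67
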